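import Cfsg.Agent.SporB.Fi23.G.Check0
import Cfsg.Agent.SporB.Fi23.G.Check1
import Cfsg.Agent.SporB.Fi23.G.Check2
import Cfsg.Agent.SporB.Fi23.G.Check3
import Cfsg.Agent.SporB.Fi23.G.Check4
import Cfsg.Agent.SporB.Fi23.G.Check5
import Cfsg.Agent.SporB.Fi23.G.Check6
import Cfsg.Agent.SporB.Fi23.G.Check7
import Cfsg.Agent.SporB.Fi23.G.Check8
import Cfsg.Agent.SporB.Fi23.G.Check9
import Cfsg.Agent.SporB.Fi23.G.Check10
import Cfsg.Agent.SporB.Fi23.G.Check11
import Cfsg.Agent.SporB.Fi23.G.Check12
import Cfsg.Agent.SporB.Fi23.G.Check13
import Cfsg.Agent.SporB.Fi23.G.Check14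
import Cfsg.Agent.SporB.Fi23.G.Check15
import Cfsg.Agent.SporB.Fi23.G.Check16
import Cfsg.Agent.SporB.Fi23.G.Check17
import Cfsg.Agent.SporB.Fi23.G.Check18
import Cfsg.Agent.SporB.Fi23.G.Check19
import Cfsg.Agent.SporB.Fi23.G.Check20
import Cfsg.Agent.SporB.Fi23.G.Check21
import Cfsg.Agent.SporB.Fi23.G.Check22
import Cfsg.Agent.SporB.Fi23.G.Check23
import Cfsg.Agent.SporB.Fi23.G.Check24
import Cfsg.Agent.SporB.Fi23.G.Check25
import Cfsg.Agent.SporB.Fi23.G.Check26
import Cfsg.Agent.SporB.Fi23.G.Check27
import Cfsg.Agent.SporB.Fi23.G.Check28
import Cfsg.Agent.SporB.Fi23.G.Check29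
import Cfsg.Agent.SporB.Fi23.G.Check30
import Cfsg.Agent.SporB.Fi23.G.Check31
import Cfsg.Agent.SporB.Fi23.G.Check32
import Cfsg.Agent.SporB.Fi23.G.Check33
import Cfsg.Agent.SporB.Fi23.G.Check34
import Cfsg.Agent.SporB.Fi23.G.Check35
import Cfsg.Agent.SporB.Fi23.G.Check36
import Cfsg.Agent.SporB.Fi23.G.Check37
import Cfsg.Agent.SporB.Fi23.G.Check38
import Cfsg.Agent.SporB.Fi23.G.Check39
import Cfsg.Agent.SporB.Fi23.G.Check40
import Cfsg.Agent.SporB.Fi23.G.Check41
import Cfsg.Agent.SporB.Fi23.G.Check42
import Cfsg.Agent.SporB.Fi23.G.Check43
import Cfsg.Agent.SporB.Fi23.G.Check44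
import Cfsg.Agent.SporB.Fi23.G.Check45
import Cfsg.Agent.SporB.Fi23.G.Check46
import Cfsg.Agent.SporB.Fi23.G.Check47
import Cfsg.Agent.SporB.Fi23.G.Check48
import Cfsg.Agent.SporB.Fi23.G.Check49
import Cfsg.Agent.SporB.Fi23.G.Check50
import Cfsg.Agent.SporB.Fi23.G.Check51
import Cfsg.Agent.SporB.Fi23.G.Check52
import Cfsg.Agent.SporB.Fi23.G.Check53

set_option autoImplicit false
set_option maxRecDepth 100000

namespace Cfsg.Agent.CosetEnum.Fi23.G

theorem dok0 : allRange sys.checkDef 0 1024 = true := by decide +kernel

theorem dok1 : allRange sys.checkDef 1024 1024 = true := by decide +kernel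

theorem dok2 : allRange sys.checkDef 2048 1024 = true := by decide +kernel

theorem dok3 : allRange sys.checkDef 3072 1024 = true := by decide +kernel

theorem dok4 : allRange sys.checkDef 4096 1024 = true := by decide +kernel

theorem dok5 : allRange sys.checkDef 5120 1024 = true := by decide +kernel

theorem dok6 : allRange sys.checkDef 6144 1024 = true := by decide +kernel

theorem dok7 : allRange sys.checkDef 7168 1024 = true := by decide +kernel

theorem dok8 : allRange sys.checkDef 8192 1024 = true := by decide +kernel

theorem dok9 : allRange sys.checkDef 9216 1024 = true := by decide +kernel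

theorem dok10 : allRange sys.checkDef 10240 1024 = true := by decide +kernel

theorem dok11 : allRange sys.checkDef 11264 1024 = true := by decide +kernel

theorem dok12 : allRange sys.checkDef 12288 1024 = true := by decide +kernel

theorem dok13 : allRange sys.checkDef 13312 1024 = true := by decide +kernel

theorem dok14 : allRange sys.checkDef 14336 1024 = true := by decide +kernel

theorem dok15 : allRange sys.checkDef 15360 1024 = true := by decide +kernel

theorem dok16 : allRange sys.checkDef 16384 1024 = true := by decide +kernel

theorem dok17 : allRange sys.checkDef 17408 1024 = true := by decide +kernel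

theorem dok18 : allRange sys.checkDef 18432 1024 = true := by decide +kernel

theorem dok19 : allRange sys.checkDef 19456 1024 = true := by decide +kernel

theorem dok20 : allRange sys.checkDef 20480 1024 = true := by decide +kernel

theorem dok21 : allRange sys.checkDef 21504 1024 = true := by decide +kernel

theorem dok22 : allRange sys.checkDef 22528 1024 = true := by decide +kernel

theorem dok23 : allRange sys.checkDef 23552 1024 = true := by decide +kernel

theorem dok24 : allRange sys.checkDef 24576 1024 = true := by decide +kernel

theorem dok25 : allRange sys.checkDef 25600 1024 = true := by decide +kernel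

theorem dok26 : allRange sys.checkDef 26624 1024 = true := by decide +kernel

theorem dok27 : allRange sys.checkDef 27648 1024 = true := by decide +kernel

theorem dok28 : allRange sys.checkDef 28672 1024 = true := by decide +kernel

theorem dok29 : allRange sys.checkDef 29696 1024 = true := by decide +kernel

theorem dok30 : allRange sys.checkDef 30720 1024 = true := by decide +kernel

theorem dok31 : allRange sys.checkDef 31744 1024 = true := by decide +kernel

theorem dok32 : allRange sys.checkDef 32768 1024 = true := by decide +kernel

theorem dok33 : allRange sys.checkDef 33792 1024 = true := by decide +kernel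

theorem dok34 : allRange sys.checkDef 34816 1024 = true := by decide +kernel

theorem dok35 : allRange sys.checkDef 35840 1024 = true := by decide +kernel

theorem dok36 : allRange sys.checkDef 36864 1024 = true := by decide +kernel

theorem dok37 : allRange sys.checkDef 37888 550 = true := by decide +kernel

def fchunks : List (ℕ × ℕ) := [(128, fv0), (128, fv1), (128, fv2), (128, fv3), (128, fv4), (128, fv5), (128, fv6), (128, fv7), (128, fv8), (128, fv9), (128, fv10), (128, fv11), (128, fv12), (128, fv13), (128, fv14), (128, fv15), (128, fv16), (128, fv17), (128, fv18), (128, fv19), (128, fv20), (128, fv21), (128, fv22), (128, fv23), (128, fv24), (128, fv25), (128, fv26), (128, fv27), (128, fv28), (128, fv29), (128, fv30), (128, fv31), (128, fv32), (128, fv33), (128, fv34), (128, fv35), (128, fv36), (128, fv37), (128, fv38), (128, fv39), (128, fv40), (128, fv41), (128, fv42), (128, fv43), (128, fv44), (128, fv45), (128, fv46), (128, fv47), (128, fv48), (128, fv49), (128, fv50), (128, fv51), (128, fv52), (128, fv53), (128, fv54), (128, fv55), (128, fv56), (128, fv57), (128, fv58), (128, fv59), (128, fv60), (128, fv61), (128, fv62),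 (128, fv63), (128, fv64), (128, fv65), (128, fv66), (128, fv67), (128, fv68), (128, fv69), (128, fv70), (128, fv71), (128, fv72), (128, fv73), (128, fv74), (128, fv75), (128, fv76), (128, fv77), (128, fv78), (128, fv79), (128, fv80), (128, fv81), (128, fv82), (128, fv83), (128, fv84), (128, fv85), (128, fv86), (128, fv87), (128, fv88), (128, fv89), (128, fv90), (128, fv91), (128, fv92), (128, fv93), (128, fv94), (128, fv95), (128, fv96), (128, fv97), (128, fv98), (128, fv99), (128, fv100), (128, fv101), (128, fv102), (128, fv103), (128, fv104), (128, fv105), (128, fv106), (128, fv107), (128, fv108), (128, fv109), (128, fv110), (128, fv111), (128, fv112), (128, fv113), (128, fv114), (128, fv115), (128, fv116), (128, fv117), (128, fv118), (128, fv119), (128, fv120), (128, fv121), (128, fv122), (128, fv123), (128, fv124), (128, fv125), (128, fv126), (128, fv127), (128, fv128), (128, fv129), (128, fv130), (128, fv131), (128, fv132), (128, fv133), (128, fv134), (128, fv135), (128, fv136), (128, fv137), (128, fv138), (128, fv139), (128, fv140), (128, fv141), (128, fv142), (128, fv143), (128, fv144), (128, fv145), (128, fv146), (128, fv147),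 (128, fv148), (128, fv149), (128, fv150), (128, fv151), (128, fv152), (128, fv153), (128, fv154), (128, fv155), (128, fv156), (128, fv157), (128, fv158), (128, fv159), (128, fv160), (128, fv161), (128, fv162), (128, fv163), (128, fv164), (128, fv165), (128, fv166), (128, fv167), (128, fv168), (128, fv169), (128, fv170), (128, fv171), (128, fv172), (128, fv173), (128, fv174), (128, fv175), (128, fv176), (128, fv177), (128, fv178), (128, fv179), (128, fv180), (128, fv181), (128, fv182), (128, fv183), (128, fv184), (128, fv185), (128, fv186), (128, fv187), (128, fv188), (128, fv189), (128, fv190), (128, fv191), (128, fv192), (128, fv193), (128, fv194), (128, fv195), (128, fv196), (128, fv197), (128, fv198), (128, fv199), (128, fv200), (128, fv201), (128, fv202), (128, fv203), (128, fv204), (128, fv205), (128, fv206), (128, fv207), (128, fv208), (128, fv209), (128, fv210), (128, fv211), (128, fv212), (128, fv213), (128, fv214), (128, fv215), (128, fv216), (128, fv217), (128, fv218), (128, fv219), (128, fv220), (128, fv221), (128, fv222), (128, fv223), (128, fv224), (128, fv225), (128, fv226), (128, fv227), (128, fv228), (128, fv229),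 (128, fv230), (128, fv231), (128, fv232), (128, fv233), (128, fv234), (128, fv235), (128, fv236), (128, fv237), (128, fv238), (128, fv239), (128, fv240), (128, fv241), (128, fv242), (128, fv243), (128, fv244), (128, fv245), (128, fv246), (128, fv247), (128, fv248), (128, fv249), (128, fv250), (128, fv251), (128, fv252), (128, fv253), (128, fv254), (128, fv255), (128, fv256), (128, fv257), (128, fv258), (128, fv259), (128, fv260), (128, fv261), (128, fv262), (128, fv263), (128, fv264), (128, fv265), (128, fv266), (128, fv267), (128, fv268), (128, fv269), (128, fv270), (128, fv271), (128, fv272), (128, fv273), (128, fv274), (128, fv275), (128, fv276), (128, fv277), (128, fv278), (128, fv279), (128, fv280), (128, fv281), (128, fv282), (128, fv283), (128, fv284), (128, fv285), (128, fv286), (128, fv287), (128, fv288), (128, fv289), (128, fv290), (128, fv291), (128, fv292), (128, fv293), (128, fv294), (128, fv295), (128, fv296), (128, fv297), (128, fv298), (128, fv299), (128, fv300), (128, fv301), (128, fv302), (128, fv303), (128, fv304), (128, fv305), (128, fv306), (128, fv307), (128, fv308), (128, fv309), (128, fv310), (128, fv311),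 (128, fv312), (128, fv313), (128, fv314), (128, fv315), (128, fv316), (128, fv317), (128, fv318), (128, fv319), (128, fv320), (128, fv321), (128, fv322), (128, fv323), (128, fv324), (128, fv325), (128, fv326), (128, fv327), (128, fv328), (128, fv329), (128, fv330), (128, fv331), (128, fv332), (128, fv333), (128, fv334), (128, fv335), (128, fv336), (128, fv337), (128, fv338), (128, fv339), (128, fv340), (128, fv341), (128, fv342), (128, fv343), (128, fv344), (128, fv345), (128, fv346), (128, fv347), (128, fv348), (128, fv349), (128, fv350), (128, fv351), (128, fv352), (128, fv353), (128, fv354), (128, fv355), (128, fv356), (128, fv357), (128, fv358), (128, fv359), (128, fv360), (128, fv361), (128, fv362), (128, fv363), (128, fv364), (128, fv365), (128, fv366), (128, fv367), (128, fv368), (128, fv369), (128, fv370), (128, fv371), (128, fv372), (128, fv373), (128, fv374), (128, fv375), (128, fv376), (128, fv377), (128, fv378), (128, fv379), (128, fv380), (128, fv381), (128, fv382), (128, fv383), (128, fv384), (128, fv385), (128, fv386), (128, fv387), (128, fv388), (128, fv389), (128, fv390), (128, fv391), (128, fv392), (128, fv393),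 (128, fv394), (128, fv395), (128, fv396), (128, fv397), (128, fv398), (128, fv399), (128, fv400), (128, fv401), (128, fv402), (128, fv403), (128, fv404), (128, fv405), (128, fv406), (128, fv407), (128, fv408), (128, fv409), (128, fv410), (128, fv411), (128, fv412), (128, fv413), (128, fv414), (128, fv415), (128, fv416), (128, fv417), (128, fv418), (128, fv419), (128, fv420), (128, fv421), (128, fv422), (128, fv423), (128, fv424), (128, fv425), (128, fv426), (128, fv427), (128, fv428), (128, fv429), (128, fv430), (128, fv431), (128, fv432), (128, fv433), (128, fv434), (128, fv435), (128, fv436), (128, fv437), (128, fv438), (128, fv439), (128, fv440), (128, fv441), (128, fv442), (128, fv443), (128, fv444), (128, fv445), (128, fv446), (128, fv447), (128, fv448), (128, fv449), (128, fv450), (128, fv451), (128, fv452), (128, fv453), (128, fv454), (128, fv455), (128, fv456), (128, fv457), (128, fv458), (128, fv459), (128, fv460), (128, fv461), (128, fv462), (128, fv463), (128, fv464), (128, fv465), (128, fv466), (128, fv467), (128, fv468), (128, fv469), (128, fv470), (128, fv471), (128, fv472), (128, fv473), (128, fv474), (128, fv475),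 (128, fv476), (128, fv477), (128, fv478), (128, fv479), (128, fv480), (128, fv481), (128, fv482), (128, fv483), (128, fv484), (128, fv485), (128, fv486), (128, fv487), (128, fv488), (128, fv489), (128, fv490), (128, fv491), (128, fv492), (128, fv493), (128, fv494), (128, fv495), (128, fv496), (128, fv497), (128, fv498), (128, fv499), (128, fv500), (128, fv501), (128, fv502), (128, fv503), (128, fv504), (128, fv505), (128, fv506), (128, fv507), (128, fv508), (128, fv509), (128, fv510), (128, fv511), (128, fv512), (128, fv513), (128, fv514), (128, fv515), (128, fv516), (128, fv517), (128, fv518), (128, fv519), (128, fv520), (128, fv521), (128, fv522), (128, fv523), (128, fv524), (128, fv525), (128, fv526), (128, fv527), (128, fv528), (128, fv529), (128, fv530), (128, fv531), (128, fv532), (128, fv533), (128, fv534), (128, fv535), (128, fv536), (128, fv537), (128, fv538), (128, fv539), (128, fv540), (128, fv541), (128, fv542), (128, fv543), (128, fv544), (128, fv545), (128, fv546), (128, fv547), (128, fv548), (128, fv549), (128, fv550), (128, fv551), (128, fv552), (128, fv553), (128, fv554), (128, fv555), (128, fv556), (128, fv557),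 (128, fv558), (128, fv559), (128, fv560), (128, fv561), (128, fv562), (128, fv563), (128, fv564), (128, fv565), (128, fv566), (128, fv567), (128, fv568), (128, fv569), (128, fv570), (128, fv571), (128, fv572), (128, fv573), (128, fv574), (128, fv575), (128, fv576), (128, fv577), (128, fv578), (128, fv579), (128, fv580), (128, fv581), (128, fv582), (128, fv583), (128, fv584), (128, fv585), (128, fv586), (128, fv587), (128, fv588), (128, fv589), (128, fv590), (128, fv591), (128, fv592), (128, fv593), (128, fv594), (128, fv595), (128, fv596), (128, fv597), (128, fv598), (128, fv599), (128, fv600), (128, fv601), (128, fv602), (128, fv603), (128, fv604), (128, fv605), (128, fv606), (128, fv607), (128, fv608), (128, fv609), (128, fv610), (128, fv611), (128, fv612), (128, fv613), (128, fv614), (128, fv615), (128, fv616), (128, fv617), (128, fv618), (128, fv619), (128, fv620), (128, fv621), (128, fv622), (128, fv623), (128, fv624), (128, fv625), (128, fv626), (128, fv627), (128, fv628), (128, fv629), (128, fv630), (128, fv631), (128, fv632), (128, fv633), (128, fv634), (128, fv635), (128, fv636), (128, fv637), (128, fv638), (128, fv639),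 (128, fv640), (128, fv641), (128, fv642), (128, fv643), (128, fv644), (128, fv645), (128, fv646), (128, fv647), (128, fv648), (128, fv649), (128, fv650), (128, fv651), (128, fv652), (128, fv653), (128, fv654), (128, fv655), (128, fv656), (128, fv657), (128, fv658), (128, fv659), (128, fv660), (128, fv661), (128, fv662), (128, fv663), (128, fv664), (128, fv665), (128, fv666), (128, fv667), (128, fv668), (128, fv669), (128, fv670), (128, fv671), (128, fv672), (128, fv673), (128, fv674), (128, fv675), (128, fv676), (128, fv677), (128, fv678), (128, fv679), (128, fv680), (128, fv681), (128, fv682), (128, fv683), (128, fv684), (128, fv685), (128, fv686), (128, fv687), (128, fv688), (128, fv689), (128, fv690), (128, fv691), (128, fv692), (128, fv693), (128, fv694), (128, fv695), (128, fv696), (128, fv697), (128, fv698), (128, fv699), (128, fv700), (128, fv701), (128, fv702), (128, fv703), (128, fv704), (128, fv705), (128, fv706), (128, fv707), (128, fv708), (128, fv709), (128, fv710), (128, fv711), (128, fv712), (128, fv713), (128, fv714), (128, fv715), (128, fv716), (128, fv717), (128, fv718), (128, fv719), (128, fv720), (128, fv721),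 (128, fv722), (128, fv723), (128, fv724), (128, fv725), (128, fv726), (128, fv727), (128, fv728), (128, fv729), (128, fv730), (128, fv731), (128, fv732), (128, fv733), (128, fv734), (128, fv735), (128, fv736), (128, fv737), (128, fv738), (128, fv739), (128, fv740), (128, fv741), (128, fv742), (128, fv743), (128, fv744), (128, fv745), (128, fv746), (128, fv747), (128, fv748), (128, fv749), (128, fv750), (128, fv751), (128, fv752), (128, fv753), (128, fv754), (128, fv755), (128, fv756), (128, fv757), (128, fv758), (128, fv759), (128, fv760), (128, fv761), (128, fv762), (128, fv763), (128, fv764), (128, fv765), (128, fv766), (128, fv767), (128, fv768), (128, fv769), (128, fv770), (128, fv771), (128, fv772), (128, fv773), (128, fv774), (128, fv775), (128, fv776), (128, fv777), (128, fv778), (128, fv779), (128, fv780), (128, fv781), (128, fv782), (128, fv783), (128, fv784), (128, fv785), (128, fv786), (128, fv787), (128, fv788), (128, fv789), (128, fv790), (128, fv791), (128, fv792), (128, fv793), (128, fv794), (128, fv795), (128, fv796), (128, fv797), (128, fv798), (128, fv799), (128, fv800), (128, fv801), (128, fv802), (128, fv803),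 (128, fv804), (128, fv805), (128, fv806), (128, fv807), (128, fv808), (128, fv809), (128, fv810), (128, fv811), (128, fv812), (128, fv813), (128, fv814), (128, fv815), (128, fv816), (128, fv817), (128, fv818), (128, fv819), (128, fv820), (128, fv821), (128, fv822), (128, fv823), (128, fv824), (128, fv825), (128, fv826), (128, fv827), (128, fv828), (128, fv829), (128, fv830), (128, fv831), (128, fv832), (128, fv833), (128, fv834), (128, fv835), (128, fv836), (128, fv837), (128, fv838), (128, fv839), (128, fv840), (128, fv841), (128, fv842), (128, fv843), (128, fv844), (128, fv845), (128, fv846), (128, fv847), (128, fv848), (128, fv849), (128, fv850), (128, fv851), (128, fv852), (128, fv853), (128, fv854), (128, fv855), (128, fv856), (128, fv857), (128, fv858), (128, fv859), (128, fv860), (128, fv861), (128, fv862), (128, fv863), (128, fv864), (128, fv865), (128, fv866), (128, fv867), (128, fv868), (128, fv869), (128, fv870), (128, fv871), (128, fv872), (128, fv873), (128, fv874), (128, fv875), (128, fv876), (128, fv877), (128, fv878), (128, fv879), (128, fv880), (128, fv881), (128, fv882), (128, fv883), (128, fv884), (128, fv885),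 (128, fv886), (128, fv887), (128, fv888), (128, fv889), (128, fv890), (128, fv891), (128, fv892), (128, fv893), (128, fv894), (128, fv895), (128, fv896), (128, fv897), (128, fv898), (128, fv899), (128, fv900), (128, fv901), (128, fv902), (128, fv903), (128, fv904), (128, fv905), (128, fv906), (128, fv907), (128, fv908), (128, fv909), (128, fv910), (128, fv911), (128, fv912), (128, fv913), (128, fv914), (128, fv915), (128, fv916), (128, fv917), (128, fv918), (128, fv919), (128, fv920), (128, fv921), (128, fv922), (128, fv923), (128, fv924), (128, fv925), (128, fv926), (128, fv927), (128, fv928), (128, fv929), (128, fv930), (128, fv931), (128, fv932), (128, fv933), (128, fv934), (128, fv935), (128, fv936), (128, fv937), (128, fv938), (128, fv939), (128, fv940), (128, fv941), (128, fv942), (128, fv943), (128, fv944), (128, fv945), (128, fv946), (128, fv947), (128, fv948), (128, fv949), (128, fv950), (128, fv951), (128, fv952), (128, fv953), (128, fv954), (128, fv955), (128, fv956), (128, fv957), (128, fv958), (128, fv959), (128, fv960), (128, fv961), (128, fv962), (128, fv963), (128, fv964), (128, fv965), (128, fv966), (128, fv967),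 (128, fv968), (128, fv969), (128, fv970), (128, fv971), (128, fv972), (128, fv973), (128, fv974), (128, fv975), (128, fv976), (128, fv977), (128, fv978), (128, fv979), (128, fv980), (128, fv981), (128, fv982), (128, fv983), (128, fv984), (128, fv985), (128, fv986), (128, fv987), (128, fv988), (128, fv989), (128, fv990), (128, fv991), (128, fv992), (128, fv993), (128, fv994), (128, fv995), (128, fv996), (128, fv997), (128, fv998), (128, fv999), (128, fv1000), (128, fv1001), (128, fv1002), (128, fv1003), (128, fv1004), (128, fv1005), (128, fv1006), (128, fv1007), (128, fv1008), (128, fv1009), (128, fv1010), (128, fv1011), (128, fv1012), (128, fv1013), (128, fv1014), (128, fv1015), (128, fv1016), (128, fv1017), (128, fv1018), (128, fv1019), (128, fv1020), (128, fv1021), (128, fv1022), (128, fv1023), (128, fv1024), (128, fv1025), (128, fv1026), (128, fv1027), (128, fv1028), (128, fv1029), (128, fv1030), (128, fv1031), (128, fv1032), (128, fv1033), (128, fv1034), (128, fv1035), (128, fv1036), (128, fv1037), (128, fv1038), (128, fv1039), (128, fv1040), (128, fv1041), (128, fv1042), (128, fv1043), (128, fv1044), (128, fv1045), (128, fv1046),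 (128, fv1047), (128, fv1048), (128, fv1049), (128, fv1050), (128, fv1051), (128, fv1052), (128, fv1053), (128, fv1054), (128, fv1055), (128, fv1056), (128, fv1057), (128, fv1058), (128, fv1059), (128, fv1060), (128, fv1061), (128, fv1062), (128, fv1063), (128, fv1064), (128, fv1065), (128, fv1066), (128, fv1067), (128, fv1068), (128, fv1069), (128, fv1070), (128, fv1071), (128, fv1072), (128, fv1073), (128, fv1074), (128, fv1075), (128, fv1076), (128, fv1077), (128, fv1078), (128, fv1079), (128, fv1080), (128, fv1081), (128, fv1082), (128, fv1083), (128, fv1084), (128, fv1085), (128, fv1086), (128, fv1087), (128, fv1088), (128, fv1089), (128, fv1090), (128, fv1091), (128, fv1092), (128, fv1093), (128, fv1094), (128, fv1095), (128, fv1096), (128, fv1097), (128, fv1098), (128, fv1099), (128, fv1100), (128, fv1101), (128, fv1102), (128, fv1103), (128, fv1104), (128, fv1105), (128, fv1106), (128, fv1107), (128, fv1108), (128, fv1109), (128, fv1110), (128, fv1111), (128, fv1112), (128, fv1113), (128, fv1114), (128, fv1115), (128, fv1116), (128, fv1117), (128, fv1118), (128, fv1119), (128, fv1120), (128, fv1121), (128, fv1122), (128,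 fv1123), (128, fv1124), (128, fv1125), (128, fv1126), (128, fv1127), (128, fv1128), (128, fv1129), (128, fv1130), (128, fv1131), (128, fv1132), (128, fv1133), (128, fv1134), (128, fv1135), (128, fv1136), (128, fv1137), (128, fv1138), (128, fv1139), (128, fv1140), (128, fv1141), (128, fv1142), (128, fv1143), (128, fv1144), (128, fv1145), (128, fv1146), (128, fv1147), (128, fv1148), (128, fv1149), (128, fv1150), (128, fv1151), (128, fv1152), (128, fv1153), (128, fv1154), (128, fv1155), (128, fv1156), (128, fv1157), (128, fv1158), (128, fv1159), (128, fv1160), (128, fv1161), (128, fv1162), (128, fv1163), (128, fv1164), (128, fv1165), (128, fv1166), (128, fv1167), (128, fv1168), (128, fv1169), (128, fv1170), (128, fv1171), (128, fv1172), (128, fv1173), (128, fv1174), (128, fv1175), (128, fv1176), (128, fv1177), (128, fv1178), (128, fv1179), (128, fv1180), (128, fv1181), (128, fv1182), (128, fv1183), (128, fv1184), (128, fv1185), (128, fv1186), (128, fv1187), (128, fv1188), (128, fv1189), (128, fv1190), (128, fv1191), (128, fv1192), (128, fv1193), (128, fv1194), (128, fv1195), (128, fv1196), (128, fv1197), (128, fv1198), (128, fv1199),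 (128, fv1200), (128, fv1201), (128, fv1202), (128, fv1203), (128, fv1204), (128, fv1205), (128, fv1206), (128, fv1207), (128, fv1208), (128, fv1209), (128, fv1210), (128, fv1211), (128, fv1212), (128, fv1213), (128, fv1214), (128, fv1215), (128, fv1216), (128, fv1217), (128, fv1218), (128, fv1219), (128, fv1220), (128, fv1221), (128, fv1222), (128, fv1223), (128, fv1224), (128, fv1225), (128, fv1226), (128, fv1227), (122, fv1228)]

def rchunks : List (ℕ × ℕ) := [(64, rv0), (64, rv1), (64, rv2), (64, rv3), (64, rv4), (64, rv5), (64, rv6), (64, rv7), (64, rv8), (64, rv9), (64, rv10), (64, rv11), (64, rv12), (64, rv13), (64, rv14), (64, rv15), (64, rv16), (64, rv17), (64, rv18), (64, rv19), (64, rv20), (64, rv21), (64, rv22), (64, rv23), (64, rv24), (64, rv25), (64, rv26), (64, rv27), (64, rv28), (64, rv29), (64, rv30), (64, rv31), (64, rv32), (64, rv33), (64, rv34), (64, rv35), (64, rv36), (64, rv37), (64, rv38), (64, rv39), (64, rv40), (64, rv41), (64, rv42), (64, rv43), (64, rv44), (64, rv45), (64, rv46), (64, rv47), (64, rv48), (64, rv49), (64, rv50), (64, rv51), (64, rv52), (64, rv53), (64, rv54), (64, rv55), (64, rv56), (64,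 rv57), (64, rv58), (64, rv59), (64, rv60), (64, rv61), (64, rv62), (64, rv63), (64, rv64), (64, rv65), (64, rv66), (64, rv67), (64, rv68), (64, rv69), (64, rv70), (64, rv71), (64, rv72), (64, rv73), (64, rv74), (64, rv75), (64, rv76), (64, rv77), (64, rv78), (64, rv79), (64, rv80), (64, rv81), (64, rv82), (64, rv83), (64, rv84), (64, rv85), (64, rv86), (64, rv87), (64, rv88), (64, rv89), (64, rv90), (64, rv91), (64, rv92), (64, rv93), (64, rv94), (64, rv95), (64, rv96), (64, rv97), (64, rv98), (64, rv99), (64, rv100), (64, rv101), (64, rv102), (64, rv103), (64, rv104), (64, rv105), (64, rv106), (64, rv107), (64, rv108), (64, rv109), (64, rv110), (64, rv111), (64, rv112), (64, rv113), (64, rv114), (64, rv115), (64, rv116), (64, rv117), (64, rv118), (64, rv119), (64, rv120), (64, rv121), (64, rv122), (64, rv123), (64, rv124), (64, rv125), (64, rv126), (64, rv127), (64, rv128), (64, rv129), (64, rv130), (64, rv131), (64, rv132), (64, rv133), (64, rv134), (64, rv135), (64, rv136), (64, rv137), (64, rv138), (64, rv139), (64, rv140), (64, rv141), (64, rv142), (64, rv143), (64, rv144), (64, rv145), (64, rv146), (64, rv147), (64, rv148),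 (64, rv149), (64, rv150), (64, rv151), (64, rv152), (64, rv153), (64, rv154), (64, rv155), (64, rv156), (64, rv157), (64, rv158), (64, rv159), (64, rv160), (64, rv161), (64, rv162), (64, rv163), (64, rv164), (64, rv165), (64, rv166), (64, rv167), (64, rv168), (64, rv169), (64, rv170), (64, rv171), (64, rv172), (64, rv173), (64, rv174), (64, rv175), (64, rv176), (64, rv177), (64, rv178), (64, rv179), (64, rv180), (64, rv181), (64, rv182), (64, rv183), (64, rv184), (64, rv185), (64, rv186), (64, rv187), (64, rv188), (64, rv189), (64, rv190), (64, rv191), (64, rv192), (64, rv193), (64, rv194), (64, rv195), (64, rv196), (64, rv197), (64, rv198), (64, rv199), (64, rv200), (64, rv201), (64, rv202), (64, rv203), (64, rv204), (64, rv205), (64, rv206), (64, rv207), (64, rv208), (64, rv209), (64, rv210), (64, rv211), (64, rv212), (64, rv213), (64, rv214), (64, rv215), (64, rv216), (64, rv217), (64, rv218), (64, rv219), (64, rv220), (64, rv221), (64, rv222), (64, rv223), (64, rv224), (64, rv225), (64, rv226), (64, rv227), (64, rv228), (64, rv229), (64, rv230), (64, rv231), (64, rv232), (64, rv233), (64, rv234), (64, rv235), (64, rv236), (64,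 rv237), (64, rv238), (64, rv239), (64, rv240), (64, rv241), (64, rv242), (64, rv243), (64, rv244), (64, rv245), (64, rv246), (64, rv247), (64, rv248), (64, rv249), (64, rv250), (64, rv251), (64, rv252), (64, rv253), (64, rv254), (64, rv255), (64, rv256), (64, rv257), (64, rv258), (64, rv259), (64, rv260), (64, rv261), (64, rv262), (64, rv263), (64, rv264), (64, rv265), (64, rv266), (64, rv267), (64, rv268), (64, rv269), (64, rv270), (64, rv271), (64, rv272), (64, rv273), (64, rv274), (64, rv275), (64, rv276), (64, rv277), (64, rv278), (64, rv279), (64, rv280), (64, rv281), (64, rv282), (64, rv283), (64, rv284), (64, rv285), (64, rv286), (64, rv287), (64, rv288), (64, rv289), (64, rv290), (64, rv291), (64, rv292), (64, rv293), (64, rv294), (64, rv295), (64, rv296), (64, rv297), (64, rv298), (64, rv299), (64, rv300), (64, rv301), (64, rv302), (64, rv303), (64, rv304), (64, rv305), (64, rv306), (64, rv307), (64, rv308), (64, rv309), (64, rv310), (64, rv311), (64, rv312), (64, rv313), (64, rv314), (64, rv315), (64, rv316), (64, rv317), (64, rv318), (64, rv319), (64, rv320), (64, rv321), (64, rv322), (64, rv323), (64, rv324), (64, rv325),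 (64, rv326), (64, rv327), (64, rv328), (64, rv329), (64, rv330), (64, rv331), (64, rv332), (64, rv333), (64, rv334), (64, rv335), (64, rv336), (64, rv337), (64, rv338), (64, rv339), (64, rv340), (64, rv341), (64, rv342), (64, rv343), (64, rv344), (64, rv345), (64, rv346), (64, rv347), (64, rv348), (64, rv349), (64, rv350), (64, rv351), (64, rv352), (64, rv353), (64, rv354), (64, rv355), (64, rv356), (64, rv357), (64, rv358), (64, rv359), (64, rv360), (64, rv361), (64, rv362), (64, rv363), (64, rv364), (64, rv365), (64, rv366), (64, rv367), (64, rv368), (64, rv369), (64, rv370), (64, rv371), (64, rv372), (64, rv373), (64, rv374), (64, rv375), (64, rv376), (64, rv377), (64, rv378), (64, rv379), (64, rv380), (64, rv381), (64, rv382), (64, rv383), (64, rv384), (64, rv385), (64, rv386), (64, rv387), (64, rv388), (64, rv389), (64, rv390), (64, rv391), (64, rv392), (64, rv393), (64, rv394), (64, rv395), (64, rv396), (64, rv397), (64, rv398), (64, rv399), (64, rv400), (64, rv401), (64, rv402), (64, rv403), (64, rv404), (64, rv405), (64, rv406), (64, rv407), (64, rv408), (64, rv409), (64, rv410), (64, rv411), (64, rv412), (64, rv413), (64,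 rv414), (64, rv415), (64, rv416), (64, rv417), (64, rv418), (64, rv419), (64, rv420), (64, rv421), (64, rv422), (64, rv423), (64, rv424), (64, rv425), (64, rv426), (64, rv427), (64, rv428), (64, rv429), (64, rv430), (64, rv431), (64, rv432), (64, rv433), (64, rv434), (64, rv435), (64, rv436), (64, rv437), (64, rv438), (64, rv439), (64, rv440), (64, rv441), (64, rv442), (64, rv443), (64, rv444), (64, rv445), (64, rv446), (64, rv447), (64, rv448), (64, rv449), (64, rv450), (64, rv451), (64, rv452), (64, rv453), (64, rv454), (64, rv455), (64, rv456), (64, rv457), (64, rv458), (64, rv459), (64, rv460), (64, rv461), (64, rv462), (64, rv463), (64, rv464), (64, rv465), (64, rv466), (64, rv467), (64, rv468), (64, rv469), (64, rv470), (64, rv471), (64, rv472), (64, rv473), (64, rv474), (64, rv475), (64, rv476), (64, rv477), (64, rv478), (64, rv479), (64, rv480), (64, rv481), (64, rv482), (64, rv483), (64, rv484), (64, rv485), (64, rv486), (64, rv487), (64, rv488), (64, rv489), (64, rv490), (64, rv491), (64, rv492), (64, rv493), (55, rv494)]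

theorem factsOK : sys.FactsOK 38438 fchunks := ⟨fok0, fok1, fok2, fok3, fok4, fok5, fok6, fok7, fok8, fok9, fok10, fok11, fok12, fok13, fok14, fok15, fok16, fok17, fok18, fok19, fok20, fok21, fok22, fok23, fok24, fok25, fok26, fok27, fok28, fok29, fok30, fok31, fok32, fok33, fok34, fok35, fok36, fok37, fok38, fok39, fok40, fok41, fok42, fok43, fok44, fok45, fok46, fok47, fok48, fok49, fok50, fok51, fok52, fok53, fok54, fok55, fok56, fok57, fok58, fok59, fok60, fok61, fok62, fok63, fok64, fok65, fok66, fok67, fok68, fok69, fok70, fok71, fok72, fok73, fok74, fok75, fok76, fok77, fok78, fok79, fok80, fok81, fok82, fok83, fok84, fok85, fok86, fok87, fok88, fok89, fok90, fok91, fok92, fok93, fok94, fok95, fok96, fok97, fok98, fok99, fok100, fok101, fok102, fok103, fok104, fok105, fok106, fok107, fok108, fok109, fok110, fok111, fok112, fok113, fok114, fok115, fok116, fok117, fok118, fok119, fok120, fok121, fok122, fok123, fok124, fok125, fok126, fok127, fok128, fok129, fok130, fok131, fok132, fok133, fok134, fok135, fok136, fok137, fok138, fok139, fok140, fok141, fok142, fok143, fok144, fok145, fok146, fok147, fok148, fok149, fok150,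 fok151, fok152, fok153, fok154, fok155, fok156, fok157, fok158, fok159, fok160, fok161, fok162, fok163, fok164, fok165, fok166, fok167, fok168, fok169, fok170, fok171, fok172, fok173, fok174, fok175, fok176, fok177, fok178, fok179, fok180, fok181, fok182, fok183, fok184, fok185, fok186, fok187, fok188, fok189, fok190, fok191, fok192, fok193, fok194, fok195, fok196, fok197, fok198, fok199, fok200, fok201, fok202, fok203, fok204, fok205, fok206, fok207, fok208, fok209, fok210, fok211, fok212, fok213, fok214, fok215, fok216, fok217, fok218, fok219, fok220, fok221, fok222, fok223, fok224, fok225, fok226, fok227, fok228, fok229, fok230, fok231, fok232, fok233, fok234, fok235, fok236, fok237, fok238, fok239, fok240, fok241, fok242, fok243, fok244, fok245, fok246, fok247, fok248, fok249, fok250, fok251, fok252, fok253, fok254, fok255, fok256, fok257, fok258, fok259, fok260, fok261, fok262, fok263, fok264, fok265, fok266, fok267, fok268, fok269, fok270, fok271, fok272, fok273, fok274, fok275, fok276, fok277, fok278, fok279, fok280, fok281, fok282, fok283, fok284, fok285, fok286, fok287, fok288, fok289, fok290, fok291, fok292, fok293, fok294,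 fok295, fok296, fok297, fok298, fok299, fok300, fok301, fok302, fok303, fok304, fok305, fok306, fok307, fok308, fok309, fok310, fok311, fok312, fok313, fok314, fok315, fok316, fok317, fok318, fok319, fok320, fok321, fok322, fok323, fok324, fok325, fok326, fok327, fok328, fok329, fok330, fok331, fok332, fok333, fok334, fok335, fok336, fok337, fok338, fok339, fok340, fok341, fok342, fok343, fok344, fok345, fok346, fok347, fok348, fok349, fok350, fok351, fok352, fok353, fok354, fok355, fok356, fok357, fok358, fok359, fok360, fok361, fok362, fok363, fok364, fok365, fok366, fok367, fok368, fok369, fok370, fok371, fok372, fok373, fok374, fok375, fok376, fok377, fok378, fok379, fok380, fok381, fok382, fok383, fok384, fok385, fok386, fok387, fok388, fok389, fok390, fok391, fok392, fok393, fok394, fok395, fok396, fok397, fok398, fok399, fok400, fok401, fok402, fok403, fok404, fok405, fok406, fok407, fok408, fok409, fok410, fok411, fok412, fok413, fok414, fok415, fok416, fok417, fok418, fok419, fok420, fok421, fok422, fok423, fok424, fok425, fok426, fok427, fok428, fok429, fok430, fok431, fok432, fok433, fok434, fok435, fok436, fok437, fok438,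 fok439, fok440, fok441, fok442, fok443, fok444, fok445, fok446, fok447, fok448, fok449, fok450, fok451, fok452, fok453, fok454, fok455, fok456, fok457, fok458, fok459, fok460, fok461, fok462, fok463, fok464, fok465, fok466, fok467, fok468, fok469, fok470, fok471, fok472, fok473, fok474, fok475, fok476, fok477, fok478, fok479, fok480, fok481, fok482, fok483, fok484, fok485, fok486, fok487, fok488, fok489, fok490, fok491, fok492, fok493, fok494, fok495, fok496, fok497, fok498, fok499, fok500, fok501, fok502, fok503, fok504, fok505, fok506, fok507, fok508, fok509, fok510, fok511, fok512, fok513, fok514, fok515, fok516, fok517, fok518, fok519, fok520, fok521, fok522, fok523, fok524, fok525, fok526, fok527, fok528, fok529, fok530, fok531, fok532, fok533, fok534, fok535, fok536, fok537, fok538, fok539, fok540, fok541, fok542, fok543, fok544, fok545, fok546, fok547, fok548, fok549, fok550, fok551, fok552, fok553, fok554, fok555, fok556, fok557, fok558, fok559, fok560, fok561, fok562, fok563, fok564, fok565, fok566, fok567, fok568, fok569, fok570, fok571, fok572, fok573, fok574, fok575, fok576, fok577, fok578, fok579, fok580, fok581, fok582,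 fok583, fok584, fok585, fok586, fok587, fok588, fok589, fok590, fok591, fok592, fok593, fok594, fok595, fok596, fok597, fok598, fok599, fok600, fok601, fok602, fok603, fok604, fok605, fok606, fok607, fok608, fok609, fok610, fok611, fok612, fok613, fok614, fok615, fok616, fok617, fok618, fok619, fok620, fok621, fok622, fok623, fok624, fok625, fok626, fok627, fok628, fok629, fok630, fok631, fok632, fok633, fok634, fok635, fok636, fok637, fok638, fok639, fok640, fok641, fok642, fok643, fok644, fok645, fok646, fok647, fok648, fok649, fok650, fok651, fok652, fok653, fok654, fok655, fok656, fok657, fok658, fok659, fok660, fok661, fok662, fok663, fok664, fok665, fok666, fok667, fok668, fok669, fok670, fok671, fok672, fok673, fok674, fok675, fok676, fok677, fok678, fok679, fok680, fok681, fok682, fok683, fok684, fok685, fok686, fok687, fok688, fok689, fok690, fok691, fok692, fok693, fok694, fok695, fok696, fok697, fok698, fok699, fok700, fok701, fok702, fok703, fok704, fok705, fok706, fok707, fok708, fok709, fok710, fok711, fok712, fok713, fok714, fok715, fok716, fok717, fok718, fok719, fok720, fok721, fok722, fok723, fok724, fok725, fok726,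 fok727, fok728, fok729, fok730, fok731, fok732, fok733, fok734, fok735, fok736, fok737, fok738, fok739, fok740, fok741, fok742, fok743, fok744, fok745, fok746, fok747, fok748, fok749, fok750, fok751, fok752, fok753, fok754, fok755, fok756, fok757, fok758, fok759, fok760, fok761, fok762, fok763, fok764, fok765, fok766, fok767, fok768, fok769, fok770, fok771, fok772, fok773, fok774, fok775, fok776, fok777, fok778, fok779, fok780, fok781, fok782, fok783, fok784, fok785, fok786, fok787, fok788, fok789, fok790, fok791, fok792, fok793, fok794, fok795, fok796, fok797, fok798, fok799, fok800, fok801, fok802, fok803, fok804, fok805, fok806, fok807, fok808, fok809, fok810, fok811, fok812, fok813, fok814, fok815, fok816, fok817, fok818, fok819, fok820, fok821, fok822, fok823, fok824, fok825, fok826, fok827, fok828, fok829, fok830, fok831, fok832, fok833, fok834, fok835, fok836, fok837, fok838, fok839, fok840, fok841, fok842, fok843, fok844, fok845, fok846, fok847, fok848, fok849, fok850, fok851, fok852, fok853, fok854, fok855, fok856, fok857, fok858, fok859, fok860, fok861, fok862, fok863, fok864, fok865, fok866, fok867, fok868, fok869, fok870,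 fok871, fok872, fok873, fok874, fok875, fok876, fok877, fok878, fok879, fok880, fok881, fok882, fok883, fok884, fok885, fok886, fok887, fok888, fok889, fok890, fok891, fok892, fok893, fok894, fok895, fok896, fok897, fok898, fok899, fok900, fok901, fok902, fok903, fok904, fok905, fok906, fok907, fok908, fok909, fok910, fok911, fok912, fok913, fok914, fok915, fok916, fok917, fok918, fok919, fok920, fok921, fok922, fok923, fok924, fok925, fok926, fok927, fok928, fok929, fok930, fok931, fok932, fok933, fok934, fok935, fok936, fok937, fok938, fok939, fok940, fok941, fok942, fok943, fok944, fok945, fok946, fok947, fok948, fok949, fok950, fok951, fok952, fok953, fok954, fok955, fok956, fok957, fok958, fok959, fok960, fok961, fok962, fok963, fok964, fok965, fok966, fok967, fok968, fok969, fok970, fok971, fok972, fok973, fok974, fok975, fok976, fok977, fok978, fok979, fok980, fok981, fok982, fok983, fok984, fok985, fok986, fok987, fok988, fok989, fok990, fok991, fok992, fok993, fok994, fok995, fok996, fok997, fok998, fok999, fok1000, fok1001, fok1002, fok1003, fok1004, fok1005, fok1006, fok1007, fok1008, fok1009, fok1010, fok1011, fok1012,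 fok1013, fok1014, fok1015, fok1016, fok1017, fok1018, fok1019, fok1020, fok1021, fok1022, fok1023, fok1024, fok1025, fok1026, fok1027, fok1028, fok1029, fok1030, fok1031, fok1032, fok1033, fok1034, fok1035, fok1036, fok1037, fok1038, fok1039, fok1040, fok1041, fok1042, fok1043, fok1044, fok1045, fok1046, fok1047, fok1048, fok1049, fok1050, fok1051, fok1052, fok1053, fok1054, fok1055, fok1056, fok1057, fok1058, fok1059, fok1060, fok1061, fok1062, fok1063, fok1064, fok1065, fok1066, fok1067, fok1068, fok1069, fok1070, fok1071, fok1072, fok1073, fok1074, fok1075, fok1076, fok1077, fok1078, fok1079, fok1080, fok1081, fok1082, fok1083, fok1084, fok1085, fok1086, fok1087, fok1088, fok1089, fok1090, fok1091, fok1092, fok1093, fok1094, fok1095, fok1096, fok1097, fok1098, fok1099, fok1100, fok1101, fok1102, fok1103, fok1104, fok1105, fok1106, fok1107, fok1108, fok1109, fok1110, fok1111, fok1112, fok1113, fok1114, fok1115, fok1116, fok1117, fok1118, fok1119, fok1120, fok1121, fok1122, fok1123, fok1124, fok1125, fok1126, fok1127, fok1128, fok1129, fok1130, fok1131, fok1132, fok1133, fok1134, fok1135, fok1136, fok1137, fok1138, fok1139, fok1140,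 fok1141, fok1142, fok1143, fok1144, fok1145, fok1146, fok1147, fok1148, fok1149, fok1150, fok1151, fok1152, fok1153, fok1154, fok1155, fok1156, fok1157, fok1158, fok1159, fok1160, fok1161, fok1162, fok1163, fok1164, fok1165, fok1166, fok1167, fok1168, fok1169, fok1170, fok1171, fok1172, fok1173, fok1174, fok1175, fok1176, fok1177, fok1178, fok1179, fok1180, fok1181, fok1182, fok1183, fok1184, fok1185, fok1186, fok1187, fok1188, fok1189, fok1190, fok1191, fok1192, fok1193, fok1194, fok1195, fok1196, fok1197, fok1198, fok1199, fok1200, fok1201, fok1202, fok1203, fok1204, fok1205, fok1206, fok1207, fok1208, fok1209, fok1210, fok1211, fok1212, fok1213, fok1214, fok1215, fok1216, fok1217, fok1218, fok1219, fok1220, fok1221, fok1222, fok1223, fok1224, fok1225, fok1226, fok1227, fok1228, trivial⟩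

theorem rowsOK : sys.RowsOK 31671 195744 0 rchunks := ⟨rok0, rok1, rok2, rok3, rok4, rok5, rok6, rok7, rok8, rok9, rok10, rok11, rok12, rok13, rok14, rok15, rok16, rok17, rok18, rok19, rok20, rok21, rok22, rok23, rok24, rok25, rok26, rok27, rok28, rok29, rok30, rok31, rok32, rok33, rok34, rok35, rok36, rok37, rok38, rok39, rok40, rok41, rok42, rok43, rok44, rok45, rok46, rok47, rok48, rok49, rok50, rok51, rok52, rok53, rok54, rok55, rok56, rok57, rok58, rok59, rok60, rok61, rok62, rok63, rok64, rok65, rok66, rok67, rok68, rok69, rok70, rok71, rok72, rok73, rok74, rok75, rok76, rok77, rok78, rok79, rok80, rok81, rok82, rok83, rok84, rok85, rok86, rok87, rok88, rok89, rok90, rok91, rok92, rok93, rok94, rok95, rok96, rok97, rok98, rok99, rok100, rok101, rok102, rok103, rok104, rok105, rok106, rok107, rok108, rok109, rok110, rok111, rok112, rok113, rok114, rok115, rok116, rok117, rok118, rok119, rok120, rok121, rok122, rok123, rok124, rok125, rok126, rok127, rok128, rok129, rok130, rok131, rok132, rok133, rok134, rok135, rok136, rok137, rok138, rok139, rok140, rok141, rok142, rok143, rok144, rok145, rok146, rok147, rok148, rok149,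 rok150, rok151, rok152, rok153, rok154, rok155, rok156, rok157, rok158, rok159, rok160, rok161, rok162, rok163, rok164, rok165, rok166, rok167, rok168, rok169, rok170, rok171, rok172, rok173, rok174, rok175, rok176, rok177, rok178, rok179, rok180, rok181, rok182, rok183, rok184, rok185, rok186, rok187, rok188, rok189, rok190, rok191, rok192, rok193, rok194, rok195, rok196, rok197, rok198, rok199, rok200, rok201, rok202, rok203, rok204, rok205, rok206, rok207, rok208, rok209, rok210, rok211, rok212, rok213, rok214, rok215, rok216, rok217, rok218, rok219, rok220, rok221, rok222, rok223, rok224, rok225, rok226, rok227, rok228, rok229, rok230, rok231, rok232, rok233, rok234, rok235, rok236, rok237, rok238, rok239, rok240, rok241, rok242, rok243, rok244, rok245, rok246, rok247, rok248, rok249, rok250, rok251, rok252, rok253, rok254, rok255, rok256, rok257, rok258, rok259, rok260, rok261, rok262, rok263, rok264, rok265, rok266, rok267, rok268, rok269, rok270, rok271, rok272, rok273, rok274, rok275, rok276, rok277, rok278, rok279, rok280, rok281, rok282, rok283, rok284, rok285, rok286, rok287, rok288, rok289, rok290, rok291, rok292, rok293,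 rok294, rok295, rok296, rok297, rok298, rok299, rok300, rok301, rok302, rok303, rok304, rok305, rok306, rok307, rok308, rok309, rok310, rok311, rok312, rok313, rok314, rok315, rok316, rok317, rok318, rok319, rok320, rok321, rok322, rok323, rok324, rok325, rok326, rok327, rok328, rok329, rok330, rok331, rok332, rok333, rok334, rok335, rok336, rok337, rok338, rok339, rok340, rok341, rok342, rok343, rok344, rok345, rok346, rok347, rok348, rok349, rok350, rok351, rok352, rok353, rok354, rok355, rok356, rok357, rok358, rok359, rok360, rok361, rok362, rok363, rok364, rok365, rok366, rok367, rok368, rok369, rok370, rok371, rok372, rok373, rok374, rok375, rok376, rok377, rok378, rok379, rok380, rok381, rok382, rok383, rok384, rok385, rok386, rok387, rok388, rok389, rok390, rok391, rok392, rok393, rok394, rok395, rok396, rok397, rok398, rok399, rok400, rok401, rok402, rok403, rok404, rok405, rok406, rok407, rok408, rok409, rok410, rok411, rok412, rok413, rok414, rok415, rok416, rok417, rok418, rok419, rok420, rok421, rok422, rok423, rok424, rok425, rok426, rok427, rok428, rok429, rok430, rok431, rok432, rok433, rok434, rok435, rok436, rok437,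 rok438, rok439, rok440, rok441, rok442, rok443, rok444, rok445, rok446, rok447, rok448, rok449, rok450, rok451, rok452, rok453, rok454, rok455, rok456, rok457, rok458, rok459, rok460, rok461, rok462, rok463, rok464, rok465, rok466, rok467, rok468, rok469, rok470, rok471, rok472, rok473, rok474, rok475, rok476, rok477, rok478, rok479, rok480, rok481, rok482, rok483, rok484, rok485, rok486, rok487, rok488, rok489, rok490, rok491, rok492, rok493, rok494, trivial⟩

theorem cert : Cert sys 31671 38438 195744 :=
  Cert.of_chunks [1024,1024,1024,1024,1024,1024,1024,1024,1024,1024,1024,1024,1024,1024,1024,1024,1024,1024,1024,1024,1024,1024,1024,1024,1024,1024,1024,1024,1024,1024,1024,1024,1024,1024,1024,1024,1024,550] fchunks rchunks (by decide) ⟨dok0, dok1, dok2, dok3, dok4, dok5, dok6, dok7, dok8, dok9, dok10, dok11, dok12, dok13, dok14, dok15, dok16, dok17, dok18, dok19, dok20, dok21, dok22, dok23, dok24, dok25, dok26, dok27, dok28, dok29, dok30, dok31, dok32, dok33, dok34, dok35, dok36, dok37, trivial⟩ (by decide +kernel) factsOK (by decide +kernel) rowsOK (by decide +kernel)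

theorem rules_ok : sys.rules.all (fun R => R.check sys rels subs) = true := by decide +kernel

theorem inv_ok : allRange (fun l => Nat.beq (sys.inv l) l) 0 (sys.nl + 1) = true := by decide +kernel

end Cfsg.Agent.CosetEnum.Fi23.G
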